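import Mathlib.AlgebraicTopology.SimplicialObject.Coskeletal
import Mathlib.AlgebraicTopology.SimplicialSet.KanComplex
import Mathlib.AlgebraicTopology.SimplicialSet.Coskeletal
import Mathlib.AlgebraicTopology.SimplicialSet.Homotopy
import Mathlib.Tactic

/-!
Morphisms into coskeletal simplicial sets.
-/

set_option autoImplicit false
universe u

open CategoryTheory Opposite Simplicial

namespace Groth.Agent.CoskHom

variable {X : SSet.{u}} {n : ℕ} {G : SSet.{u}} [SimplicialObject.IsCoskeletal X n]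

theorem hom_ext {a b : G ⟶ X} (h : ∀ i, i ≤ n → a.app (op ⦋i⦌) = b.app (op ⦋i⦌)) : a = b := by
  apply X.hom_ext_of_isRightKanExtension (L := (SimplexCategory.Truncated.inclusion n).op) (𝟙 _)
  simp only [Category.comp_id]
  ext1
  rename_i a; obtain ⟨⟨k, hk⟩⟩ := a
  exact h k.len hk

theorem exists_hom (c : ∀ i, i ≤ n → G.obj (op ⦋i⦌) → X.obj (op ⦋i⦌))
    (nat : ∀ i j (hi : i ≤ n) (hj : j ≤ n) (θ : ⦋j⦌ ⟶ ⦋i⦌) (x : G.obj (op ⦋i⦌)),
      X.map θ.op (c i hi x) = c j hj (G.map θ.op x)) :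
    ∃ φ : G ⟶ X, ∀ i (hi : i ≤ n) x, φ.app (op ⦋i⦌) x = c i hi x := by
  let β : (SimplexCategory.Truncated.inclusion n).op ⋙ G ⟶
      (SimplexCategory.Truncated.inclusion n).op ⋙ X :=
    { app := fun a => ↾(c a.unop.1.len a.unop.2)
      naturality := fun a b θ => by
        ext x
        exact (nat a.unop.1.len b.unop.1.len a.unop.2 b.unop.2
          ((SimplexCategory.Truncated.inclusion n).map θ.unop) x).symm }
  refine ⟨X.liftOfIsRightKanExtension (𝟙 _) G β, fun i hi x => ?_⟩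
  have e := X.liftOfIsRightKanExtension_fac_app (L := (SimplexCategory.Truncated.inclusion n).op)
    (𝟙 _) G β (op ⟨⦋i⦌, hi⟩)
  exact congr($e x)

end Groth.Agent.CoskHom
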